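import Cfsg.Agent.R2.T1.N6R.Main
import Cfsg.Agent.R2.T1.N6D.Out

/-!
# S5929, `n = 6`: the order of `H` (helper7)

* `card_of_nofuse` : `|H| ≤ 720` if an element of order five is not conjugate to its square;
* `card_H` : the same from the multiplicities of the eigenvalues.
-/

set_option autoImplicit false

namespace Cfsg.Agent.R2.T1.N6R

open Cfsg Cfsg.Lie Module Equiv Equiv.Perm
open Cfsg.Agent.H943.E7V.Block (D1 rho)
open Cfsg.Agent.H952.F4 (ev es MaxAlt)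
open Cfsg.Agent.R2.T1

universe u

variable {F : Type u} [Field F] {H : Subgroup ↥(chevE7.group F)} {φ : A6 →* ↥(chevE7.group F)} {ψ : A6 →* Gh F}

theorem card_of_nofuse [Finite F] (hM : MaxAlt H 6 φ) {a : A6} (ha : orderOf a = 5)
    (hnf : ∀ h ∈ H, h * φ a * h⁻¹ ≠ φ (a * a)) : Nat.card ↥H ≤ 720 := by
  refine N6D.card_le_720 hM (N6D.odd_of_five hM fun h hh x hx5 hx1 he => ?_)
  obtain ⟨α, hα⟩ := N6D.exists_aut hM hh
  have hx : orderOf x = 5 := orderOf_eq_prime hx5 hx1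
  refine no_fuse_all hM ha hnf hh (α := α.toMonoidHom) hα x hx ?_
  have h1 : α x = x * x := by
    apply hM.inj
    rw [hα, he, pow_two]
  change IsConj (x * x) (α x)
  rw [h1]

/-- **`|H| ≤ 720`** -/
theorem card_H [Finite F] (h2 : (2 : F) ≠ 0) (hM : MaxAlt H 6 φ) (hL : Lift φ ψ) {τ : F} {a b : A6}
    {d2 d4 d5 u v : ℕ} (hd : N6L.Dat ψ τ a b d2 d4 d5 u v) (huv : u ≠ v) : Nat.card ↥H ≤ 720 := by
  refine card_of_nofuse hM hd.oa fun h _ => nofuse h2 hL hd.hτ hd.oa ?_ h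
  rw [hd.qu, hd.qv]
  omega

end Cfsg.Agent.R2.T1.N6R
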