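import Cfsg.Agent.R2.T1.N6R.Twi
import Cfsg.Agent.R2.T1.N6C.Cnt
import Cfsg.Agent.R2.T1.N6L.Dat
import Cfsg.Agent.R2.T1.Mu.Equ
import Cfsg.Agent.R2.T1.Odd.Nrm

/-!
# S5929, `n = 6`, `p = 3`, packet C2-rep: no submodule of dimension three (helper7)

* `no_three` : the module of degree 56 has no `A₆`-submodule of dimension three if `A₆` has no fixed vectors on the adjoint
  module, `|H| ≤ 720`, and the elements of order five are not fused in `H`;
* `nofuse` : the elements of order five are not fused if the multiplicities of their eigenvalues are different;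
* `hno` : the form which is used in C3.
-/

set_option autoImplicit false
set_option maxRecDepth 100000

namespace Cfsg.Agent.R2.T1.N6R

open Cfsg Cfsg.Lie Module Matrix Equiv Equiv.Perm
open Cfsg.Agent.H943.E7V.Block (D1 rho)
open Cfsg.Agent.H952.F4 (ev es MaxAlt)
open Cfsg.Agent.R2.T1 Cfsg.Agent.R2.PX Cfsg.Agent.R2.T1.Mu

universe u

variable {F : Type u} [Field F]

/-! ### the Casimir element -/

/-- the sum over an orthogonal matrix -/
theorem sum_orth {M : Type*} [AddCommGroup M] [Module F M] (B : (D1 → F) →ₗ[F] (D1 → F) →ₗ[F] M) (v : Fin 3 → D1 → F)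
    {A : Matrix (Fin 3) (Fin 3) F} (hA : A * Aᵀ = 1) :
    ∑ j, B (∑ i, A i j • v i) (∑ k, A k j • v k) = ∑ i, B (v i) (v i) := by
  have h1 : ∀ j, B (∑ i, A i j • v i) (∑ k, A k j • v k) = ∑ i, ∑ k, (A i j * A k j) • B (v i) (v k) := by
    intro j
    rw [map_sum B, LinearMap.sum_apply]
    refine Finset.sum_congr rfl fun i _ => ?_
    rw [map_smul, LinearMap.smul_apply, map_sum, Finset.smul_sum]
    refine Finset.sum_congr rfl fun k _ => ?_
    rw [map_smul, smul_smul]
  rw [Finset.sum_congr rfl fun j _ => h1 j, Finset.sum_comm]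
  refine Finset.sum_congr rfl fun i _ => ?_
  rw [Finset.sum_comm]
  have h2 : ∀ k, ∑ j, (A i j * A k j) • B (v i) (v k) = (if i = k then (1 : F) else 0) • B (v i) (v k) := by
    intro k
    rw [← Finset.sum_smul]
    congr 1
    have h3 := congrFun (congrFun hA i) k
    rw [Matrix.mul_apply, Matrix.one_apply] at h3
    rw [← h3]
    rfl
  rw [Finset.sum_congr rfl fun k _ => h2 k]
  simp

variable {M : A6 →* Matrix (Fin 3) (Fin 3) F} {ψ : A6 →* Gh F}

/-- the homomorphisms of the three-dimensional module -/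
def Hm (M : A6 →* Matrix (Fin 3) (Fin 3) F) (ψ : A6 →* Gh F) : Submodule F ((Fin 3 → F) →ₗ[F] (D1 → F)) where
  carrier := {f | ∀ g x, f (M g *ᵥ x) = V F (ψ g) (f x)}
  add_mem' := by
    intro f f' h h' g x
    rw [LinearMap.add_apply, LinearMap.add_apply, h, h', map_add]
  zero_mem' := by
    intro g x
    rw [LinearMap.zero_apply, LinearMap.zero_apply, map_zero]
  smul_mem' := by
    intro a f h g x
    rw [LinearMap.smul_apply, LinearMap.smul_apply, h, map_smul]

theorem mem_Hm {f : (Fin 3 → F) →ₗ[F] (D1 → F)} : f ∈ Hm M ψ ↔ ∀ g x, f (M g *ᵥ x) = V F (ψ g) (f x) := Iff.rfl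

theorem Hm_basis {f : (Fin 3 → F) →ₗ[F] (D1 → F)} (hf : f ∈ Hm M ψ) (g : A6) (j : Fin 3) :
    V F (ψ g) (f (Pi.single j 1)) = ∑ i, M g i j • f (Pi.single i 1) := by
  rw [← hf g]
  have h1 : M g *ᵥ Pi.single j 1 = ∑ i, M g i j • (Pi.single i 1 : Fin 3 → F) := by
    funext k
    rw [Matrix.mulVec_single_one, Finset.sum_apply]
    simp [Pi.single_apply, Matrix.col_apply]
  rw [h1, map_sum]
  simp only [map_smul]

/-- **the Casimir element is zero** -/
theorem casimir (h2 : (2 : F) ≠ 0) (h : Nor M u1 u2 uc) {f : (Fin 3 → F) →ₗ[F] (D1 → F)} (hf : f ∈ Hm M ψ)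
    (hinv : Representation.invariants (MonoidHom.comp (L F) ψ) = ⊥) :
    DD F (f (Pi.single 0 1)) (f (Pi.single 0 1)) + DD F (f (Pi.single 1 1)) (f (Pi.single 1 1)) +
      DD F (f (Pi.single 2 1)) (f (Pi.single 2 1)) = 0 := by
  obtain ⟨z, hz⟩ : ∃ z, z = dd (f (Pi.single 0 1)) (f (Pi.single 0 1)) + dd (f (Pi.single 1 1)) (f (Pi.single 1 1)) +
    dd (f (Pi.single 2 1)) (f (Pi.single 2 1)) := ⟨_, rfl⟩
  have hdz : del F z = DD F (f (Pi.single 0 1)) (f (Pi.single 0 1)) + DD F (f (Pi.single 1 1)) (f (Pi.single 1 1)) +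
      DD F (f (Pi.single 2 1)) (f (Pi.single 2 1)) := by
    rw [hz, map_add, map_add, del_dd, del_dd, del_dd]
  have hz0 : z ∈ Representation.invariants (MonoidHom.comp (L F) ψ) := by
    rw [Representation.mem_invariants]
    intro g
    change L F (ψ g) z = z
    apply Mu.del_injective
    have e1 : L F (ψ g) z = dd (V F (ψ g) (f (Pi.single 0 1))) (V F (ψ g) (f (Pi.single 0 1))) +
        dd (V F (ψ g) (f (Pi.single 1 1))) (V F (ψ g) (f (Pi.single 1 1))) +
        dd (V F (ψ g) (f (Pi.single 2 1))) (V F (ψ g) (f (Pi.single 2 1))) := by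
      rw [hz, map_add, map_add, dd_L h2, dd_L h2, dd_L h2]
    rw [e1, hdz, map_add, map_add, del_dd, del_dd, del_dd]
    have h3 := sum_orth (DDL F) (fun i => f (Pi.single i 1)) (orth6 h2 h g)
    rw [Fin.sum_univ_three, Fin.sum_univ_three (fun i => (DDL F) (f (Pi.single i 1)) (f (Pi.single i 1)))] at h3
    rw [← Hm_basis hf, ← Hm_basis hf, ← Hm_basis hf] at h3
    simp only [DDL_apply] at h3
    exact h3
  rw [hinv, Submodule.mem_bot] at hz0
  rw [← hdz, hz0, map_zero]

/-! ### stability -/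

variable {H : Subgroup ↥(chevE7.group F)} {φ : A6 →* ↥(chevE7.group F)}

/-- the basis `e, g, f` -/
theorem no_adapted [Finite F] (h3 : (3 : F) = 0) {i : F} (hi : i * i = -1) (hM : MaxAlt H 6 φ)
    (h : Nor M u1 u2 uc) {f : (Fin 3 → F) →ₗ[F] (D1 → F)} (hf : f ∈ Hm M ψ) (hf0 : f ≠ 0)
    (hinv : Representation.invariants (MonoidHom.comp (L F) ψ) = ⊥) (hst : Stab (V F) H (LinearMap.range f)) : False := by
  have h2 : (2 : F) ≠ 0 := by
    intro h2
    have h' : (1 : F) = 0 := by linear_combination h3 - h2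
    exact one_ne_zero h'
  obtain ⟨v0, hv0⟩ : ∃ v, v = f (Pi.single 0 1) := ⟨_, rfl⟩
  obtain ⟨v1, hv1⟩ : ∃ v, v = f (Pi.single 1 1) := ⟨_, rfl⟩
  obtain ⟨v2, hv2⟩ : ∃ v, v = f (Pi.single 2 1) := ⟨_, rfl⟩
  have hcas := casimir h2 h hf hinv
  rw [← hv0, ← hv1, ← hv2] at hcas
  have a1 := Hm_basis hf u1 0
  have a2 := Hm_basis hf u1 1
  have a3 := Hm_basis hf uc 0
  have a4 := Hm_basis hf uc 1
  rw [h.m1, Fin.sum_univ_three, ← hv0, ← hv1, ← hv2] at a1 a2
  rw [h.mc, Fin.sum_univ_three, ← hv0, ← hv1, ← hv2] at a3 a4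
  simp at a1 a2 a3 a4
  -- the range
  have hr : ∀ x : Fin 3 → F, f x = x 0 • v0 + x 1 • v1 + x 2 • v2 := by
    intro x
    have h4 : x = x 0 • (Pi.single 0 1 : Fin 3 → F) + x 1 • (Pi.single 1 1 : Fin 3 → F) +
        x 2 • (Pi.single 2 1 : Fin 3 → F) := by
      funext k
      fin_cases k <;> simp
    conv_lhs => rw [h4]
    rw [map_add, map_add, map_smul, map_smul, map_smul, hv0, hv1, hv2]
  have hne : v0 + i • v1 ≠ 0 := by
    intro h0
    apply hf0
    have h4 := congrArg (V F (ψ u1)) h0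
    rw [map_add, map_smul, a1, a2, map_zero, smul_neg] at h4
    have h5 : (2 : F) • v0 = 0 := by
      have : (2 : F) • v0 = (v0 + i • v1) + (v0 + -(i • v1)) := by rw [two_smul]; abel
      rw [this, h0, h4, add_zero]
    have h6 : v0 = 0 := (smul_eq_zero.1 h5).resolve_left h2
    have h7 : v1 = 0 := by rw [← a3, h6, map_zero]
    have h8 : v2 = 0 := by rw [← a4, h7, map_zero]
    refine LinearMap.ext fun x => ?_
    rw [hr, h6, h7, h8, smul_zero, smul_zero, smul_zero, LinearMap.zero_apply, add_zero, add_zero]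
  have hspan : LinearMap.range f = Submodule.span F {v0 + i • v1, i • v2, v0 - i • v1} := by
    apply le_antisymm
    · rintro _ ⟨x, rfl⟩
      have hm1 : v0 + i • v1 ∈ Submodule.span F {v0 + i • v1, i • v2, v0 - i • v1} := Submodule.subset_span (by simp)
      have hm2 : i • v2 ∈ Submodule.span F {v0 + i • v1, i • v2, v0 - i • v1} := Submodule.subset_span (by simp)
      have hm3 : v0 - i • v1 ∈ Submodule.span F {v0 + i • v1, i • v2, v0 - i • v1} := Submodule.subset_span (by simp)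
      have k0 : v0 = (2 : F)⁻¹ • ((v0 + i • v1) + (v0 - i • v1)) := by
        rw [add_add_sub_cancel, ← two_smul F v0, smul_smul, inv_mul_cancel₀ h2, one_smul]
      have k1 : v1 = (-i * (2 : F)⁻¹) • ((v0 + i • v1) - (v0 - i • v1)) := by
        have : (v0 + i • v1) - (v0 - i • v1) = ((2 : F) * i) • v1 := by rw [mul_smul, two_smul]; abel
        rw [this, smul_smul, show -i * (2 : F)⁻¹ * (2 * i) = - (i * i) * ((2 : F)⁻¹ * 2) by ring, hi,
          inv_mul_cancel₀ h2, neg_neg, one_mul, one_smul]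
      have k2 : v2 = (-i) • (i • v2) := by
        rw [smul_smul, neg_mul, hi, neg_neg, one_smul]
      have l0 : v0 ∈ Submodule.span F {v0 + i • v1, i • v2, v0 - i • v1} := by
        rw [show (v0 ∈ Submodule.span F {v0 + i • v1, i • v2, v0 - i • v1}) =
          ((2 : F)⁻¹ • ((v0 + i • v1) + (v0 - i • v1)) ∈ Submodule.span F {v0 + i • v1, i • v2, v0 - i • v1}) by
            rw [← k0]]
        exact Submodule.smul_mem _ _ (Submodule.add_mem _ hm1 hm3)
      have l1 : v1 ∈ Submodule.span F {v0 + i • v1, i • v2, v0 - i • v1} := by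
        rw [show (v1 ∈ Submodule.span F {v0 + i • v1, i • v2, v0 - i • v1}) =
          ((-i * (2 : F)⁻¹) • ((v0 + i • v1) - (v0 - i • v1)) ∈
            Submodule.span F {v0 + i • v1, i • v2, v0 - i • v1}) by rw [← k1]]
        exact Submodule.smul_mem _ _ (Submodule.sub_mem _ hm1 hm3)
      have l2 : v2 ∈ Submodule.span F {v0 + i • v1, i • v2, v0 - i • v1} := by
        rw [show (v2 ∈ Submodule.span F {v0 + i • v1, i • v2, v0 - i • v1}) =
          ((-i) • (i • v2) ∈ Submodule.span F {v0 + i • v1, i • v2, v0 - i • v1}) by rw [← k2]]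
        exact Submodule.smul_mem _ _ hm2
      rw [hr]
      exact Submodule.add_mem _ (Submodule.add_mem _ (Submodule.smul_mem _ _ l0) (Submodule.smul_mem _ _ l1))
        (Submodule.smul_mem _ _ l2)
    · rw [Submodule.span_le]
      have n0 : v0 ∈ LinearMap.range f := ⟨_, hv0.symm⟩
      have n1 : v1 ∈ LinearMap.range f := ⟨_, hv1.symm⟩
      have n2 : v2 ∈ LinearMap.range f := ⟨_, hv2.symm⟩
      rintro x (rfl | rfl | rfl)
      · exact Submodule.add_mem _ n0 (Submodule.smul_mem _ _ n1)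
      · exact Submodule.smul_mem _ _ n2
      · exact Submodule.sub_mem _ n0 (Submodule.smul_mem _ _ n1)
  refine N6C.no_adapt h2 ?_ hM.coatom (by simpa using hM.card) hst hne hspan ?_
  · -- `3 ≤ |F|`
    have h4 : (1 : F) ≠ 0 := one_ne_zero
    have h5 : (2 : F) ≠ 1 := by
      intro h5
      exact h4 (by linear_combination h5)
    classical
    have h6 : ({0, 1, 2} : Finset F).card = 3 := by
      rw [Finset.card_insert_of_notMem, Finset.card_insert_of_notMem, Finset.card_singleton]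
      · rw [Finset.mem_singleton]; exact Ne.symm h5
      · rw [Finset.mem_insert, Finset.mem_singleton]
        rintro (h7 | h7)
        · exact h4 h7.symm
        · exact h2 h7.symm
    have := Fintype.ofFinite F
    rw [Nat.card_eq_fintype_card, ← h6]
    exact Finset.card_le_univ _
  · rw [sub_eq_add_neg, DD_add_left, DD_add_right, DD_add_right, DD_neg_right, DD_neg_right, DD_smul_left, DD_smul_right,
      DD_smul_left, DD_smul_right, DD_smul_left, DD_smul_right, smul_smul, smul_smul, hi, DD_comm v1 v0, neg_one_smul,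
      neg_one_smul]
    have h9 : DD F v2 v2 = - (DD F v0 v0 + DD F v1 v1) := by
      rw [eq_neg_iff_add_eq_zero, add_comm]
      exact hcas
    rw [h9]
    abel

/-- elements of the preimage of `A₆` -/
theorem pre_sign {g : Gh F} {x : A6} (hL : Lift φ ψ) (h : ad F g = φ x) : ∃ ε : F, (ε = 1 ∨ ε = -1) ∧
    ∀ v, V F g v = ε • V F (ψ x) v := by
  rw [← hL, ad_eq_iff] at h
  rcases h with rfl | h
  · exact ⟨1, Or.inl rfl, fun v => by rw [one_smul]⟩
  · exact ⟨-1, Or.inr rfl, fun v => by rw [h, LinearMap.neg_apply, neg_one_smul]⟩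

/-- the elements of order five are not fused -/
theorem no_fuse_all (hM : MaxAlt H 6 φ) {a : A6} (ha : orderOf a = 5)
    (hnf : ∀ h ∈ H, h * φ a * h⁻¹ ≠ φ (a * a)) {h : ↥(chevE7.group F)} (hh : h ∈ H) {α : A6 →* A6}
    (hα : ∀ x, φ (α x) = h * φ x * h⁻¹) (x : A6) (hx : orderOf x = 5) : ¬ IsConj (x * x) (α x) := by
  intro hc
  obtain ⟨z, hz⟩ := isConj_iff.1 hc
  have ha5 : a ^ 5 = 1 := by rw [← ha, pow_orderOf_eq_one]
  have hne : a ^ 3 ≠ 1 := by
    intro h1
    have := orderOf_dvd_of_pow_eq_one h1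
    rw [ha] at this
    exact absurd this (by norm_num)
  rcases cls6 (ha.trans hx.symm) with h1 | h1 | ⟨-, h1⟩
  · exact hne h1
  · obtain ⟨y, rfl⟩ := isConj_iff.1 h1
    have hmem : (φ (z * y))⁻¹ * h * φ y ∈ H := H.mul_mem (H.mul_mem (H.inv_mem (hM.le ⟨_, rfl⟩)) hh) (hM.le ⟨_, rfl⟩)
    apply hnf _ hmem
    have e1 := hα (y * a * y⁻¹)
    rw [← hz] at e1
    have e2 : h * φ y * φ a * (φ y)⁻¹ * h⁻¹ = φ (z * (y * a * y⁻¹ * (y * a * y⁻¹)) * z⁻¹) := by
      rw [e1]; simp only [map_mul, map_inv]; group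
    calc (φ (z * y))⁻¹ * h * φ y * φ a * ((φ (z * y))⁻¹ * h * φ y)⁻¹
        = (φ (z * y))⁻¹ * (h * φ y * φ a * (φ y)⁻¹ * h⁻¹) * φ (z * y) := by group
      _ = φ ((z * y)⁻¹ * (z * (y * a * y⁻¹ * (y * a * y⁻¹)) * z⁻¹) * (z * y)) := by
          rw [e2]; simp only [map_mul, map_inv]
      _ = φ (a * a) := by congr 1; group
  · obtain ⟨y, rfl⟩ := isConj_iff.1 h1
    have hmem : (φ (z * y))⁻¹ * h * φ y ∈ H := H.mul_mem (H.mul_mem (H.inv_mem (hM.le ⟨_, rfl⟩)) hh) (hM.le ⟨_, rfl⟩)
    apply hnf _ hmem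
    have e1 := hα (y * (a * a) * y⁻¹)
    rw [← hz] at e1
    have e2 : h * φ y * φ (a * a) * (φ y)⁻¹ * h⁻¹ = φ (z * (y * (a * a) * y⁻¹ * (y * (a * a) * y⁻¹)) * z⁻¹) := by
      rw [e1]; simp only [map_mul, map_inv]; group
    have e3 : (φ (z * y))⁻¹ * h * φ y * φ (a * a) * ((φ (z * y))⁻¹ * h * φ y)⁻¹ = φ (a * a * (a * a)) := by
      calc (φ (z * y))⁻¹ * h * φ y * φ (a * a) * ((φ (z * y))⁻¹ * h * φ y)⁻¹
          = (φ (z * y))⁻¹ * (h * φ y * φ (a * a) * (φ y)⁻¹ * h⁻¹) * φ (z * y) := by group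
        _ = φ ((z * y)⁻¹ * (z * (y * (a * a) * y⁻¹ * (y * (a * a) * y⁻¹)) * z⁻¹) * (z * y)) := by
            rw [e2]; simp only [map_mul, map_inv]
        _ = φ (a * a * (a * a)) := by congr 1; group
    generalize (φ (z * y))⁻¹ * h * φ y = k at e3
    have e4 : k * φ a * k⁻¹ = (k * φ (a * a) * k⁻¹) ^ 3 := by
      rw [← MulAut.conj_apply, ← MulAut.conj_apply, ← map_pow, ← map_pow]
      congr 2
      calc a = a ^ 5 * a := by rw [ha5, one_mul]
        _ = (a * a) ^ 3 := by simp only [pow_succ, pow_zero, one_mul, mul_assoc]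
    rw [e4, e3, ← map_pow]
    congr 1
    calc (a * a * (a * a)) ^ 3 = a ^ 5 * a ^ 5 * (a * a) := by simp only [pow_succ, pow_zero, one_mul, mul_assoc]
      _ = a * a := by rw [ha5, one_mul, one_mul]

/-- **no submodule of dimension three** -/
theorem no_three [Finite F] (h3 : (3 : F) = 0) {i : F} (hi : i * i = -1) (hM : MaxAlt H 6 φ) (hL : Lift φ ψ)
    (hc : Nat.card ↥H ≤ 720) (hinv : Representation.invariants (MonoidHom.comp (L F) ψ) = ⊥) {a : A6}
    (ha : orderOf a = 5) (hnf : ∀ h ∈ H, h * φ a * h⁻¹ ≠ φ (a * a)) {W : Submodule F (D1 → F)}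
    (hW : ∀ g, ∀ w ∈ W, V F (ψ g) w ∈ W) (hd : finrank F ↥W = 3) : False := by
  have h2 : (2 : F) ≠ 0 := by
    intro h2
    have h' : (1 : F) = 0 := by linear_combination h3 - h2
    exact one_ne_zero h'
  -- the representation on `W`
  let ρ : Representation F A6 ↥W :=
    { toFun := fun g => (V F (ψ g)).restrict (hW g)
      map_one' := by
        refine LinearMap.ext fun w => Subtype.ext ?_
        rw [LinearMap.coe_restrict_apply, map_one, map_one]
        rfl
      map_mul' := by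
        intro g h
        refine LinearMap.ext fun w => Subtype.ext ?_
        rw [Module.End.mul_apply, LinearMap.coe_restrict_apply, LinearMap.coe_restrict_apply,
          LinearMap.coe_restrict_apply, map_mul, map_mul, Module.End.mul_apply] }
  have hρ : ∀ g (w : ↥W), ((ρ g w : ↥W) : D1 → F) = V F (ψ g) w := fun g w => rfl
  have hfix := no_fixed hM (by norm_num) (by norm_num) hL
  have hne : ∃ w, ρ u1 w ≠ w := by
    by_contra hcon
    push Not at hcon
    have hker : ρ.ker = ⊤ := by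
      have hs : IsSimpleGroup A6 := alternatingGroup.isSimpleGroup (by simp)
      rcases hs.eq_bot_or_eq_top_of_normal ρ.ker inferInstance with h4 | h4
      · exfalso
        have h5 : u1 ∈ ρ.ker := by
          rw [MonoidHom.mem_ker]
          exact LinearMap.ext hcon
        rw [h4, Subgroup.mem_bot] at h5
        exact tet6.n1 h5
      · exact h4
    have h4 : W ≤ Representation.invariants (MonoidHom.comp (V F) ψ) := by
      intro w hw
      rw [Representation.mem_invariants]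
      intro g
      have h5 : g ∈ ρ.ker := by rw [hker]; trivial
      rw [MonoidHom.mem_ker] at h5
      have h6 := hρ g ⟨w, hw⟩
      rw [h5] at h6
      exact h6.symm
    rw [hfix, le_bot_iff] at h4
    rw [h4, finrank_bot] at hd
    omega
  obtain ⟨M, e, hN, he⟩ := exists_nor h2 ρ hd tet6 hne
  let f0 : (Fin 3 → F) →ₗ[F] (D1 → F) := W.subtype ∘ₗ (e : (Fin 3 → F) →ₗ[F] ↥W)
  have hf0 : f0 ∈ Hm M ψ := by
    intro g x
    change ((e (M g *ᵥ x) : ↥W) : D1 → F) = V F (ψ g) ((e x : ↥W) : D1 → F)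
    rw [he, hρ]
  have hf00 : f0 ≠ 0 := by
    intro h4
    have h5 : ((e (Pi.single 0 1) : ↥W) : D1 → F) = 0 := congrArg (fun f => f (Pi.single 0 1)) h4
    rw [Submodule.coe_eq_zero, LinearEquiv.map_eq_zero_iff] at h5
    have h6 := congrFun h5 0
    simp at h6
  by_cases hHX : H ≤ φ.range
  · refine no_adapted h3 hi hM hN hf0 hf00 hinv ?_
    rintro g hg _ ⟨x, rfl⟩
    obtain ⟨y, hy⟩ := hHX hg
    obtain ⟨ε, -, hε⟩ := pre_sign hL hy.symm
    rw [hε, ← hf0 y]
    exact Submodule.smul_mem _ _ ⟨_, rfl⟩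
  -- an element of `H` outside
  obtain ⟨h0, hh0, hh0X⟩ := Set.not_subset.1 hHX
  obtain ⟨k, hk⟩ := ad_surjective h0
  have hex : ∀ x, ∃ b, φ b = h0 * φ x * h0⁻¹ := fun x => hM.norm h0 hh0 _ ⟨x, rfl⟩
  choose α' hα' using hex
  let α : A6 →* A6 := MonoidHom.mk' α' fun x y => hM.inj (by
    rw [hα', map_mul, map_mul, hα', hα']; group)
  have hα : ∀ x, φ (α x) = h0 * φ x * h0⁻¹ := hα'
  have hαinj : Function.Injective α := by
    intro x y hxy
    apply hM.inj
    have h1 : h0 * φ x * h0⁻¹ = h0 * φ y * h0⁻¹ := by rw [← hα, ← hα, hxy]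
    exact mul_left_cancel (mul_right_cancel h1)
  have hnfa := no_fuse_all hM ha hnf hh0 hα
  obtain ⟨P, hP, hPM⟩ := exists_twist h3 hN hαinj hnfa
  have hkψ : ∀ x, k * ψ x * k⁻¹ = ψ (α x) := by
    have h4 := Odd.hom_eq (alt_perfect (by norm_num)) (f1 := (MulAut.conj k).toMonoidHom.comp ψ) (f2 := ψ.comp α) (by
      intro x
      show ad F (k * ψ x * k⁻¹) = ad F (ψ (α x))
      rw [map_mul, map_mul, map_inv, hL, hL, hα, hk])
    exact h4
  obtain ⟨y, hy⟩ := hM.sq h0 hh0
  have hαα : ∀ g, α (α g) = y * g * y⁻¹ := by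
    intro g
    apply hM.inj
    rw [hα, hα, map_mul, map_mul, map_inv, hy]
    group
  obtain ⟨ε, hε1, hε⟩ := pre_sign (g := k * k) (x := y) hL (by rw [map_mul, hk, hy])
  obtain ⟨ν, hν⟩ := twist_sq h2 hi hN hP hPM hαα hε1
  have hu : IsUnit P.det := isUnit_iff_ne_zero.2 hP
  -- the operator
  let Θ : ((Fin 3 → F) →ₗ[F] (D1 → F)) →ₗ[F] ((Fin 3 → F) →ₗ[F] (D1 → F)) :=
    { toFun := fun f => (V F k) ∘ₗ f ∘ₗ Matrix.toLin' P⁻¹
      map_add' := by
        intro f f'
        refine LinearMap.ext fun x => ?_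
        simp
      map_smul' := by
        intro c f
        refine LinearMap.ext fun x => ?_
        simp }
  have hΘ : ∀ f x, Θ f x = V F k (f (P⁻¹ *ᵥ x)) := fun f x => by
    change V F k (f (Matrix.toLin' P⁻¹ x)) = _
    rw [Matrix.toLin'_apply]
  have hC : ∀ f ∈ Hm M ψ, Θ f ∈ Hm M ψ := by
    intro f hf g' x
    have hαs : Function.Surjective α := Finite.injective_iff_surjective.1 hαinj
    obtain ⟨g, rfl⟩ := hαs g'
    have e1 : P⁻¹ *ᵥ (M (α g) *ᵥ x) = M g *ᵥ (P⁻¹ *ᵥ x) := by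
      rw [Matrix.mulVec_mulVec, Matrix.mulVec_mulVec]
      congr 1
      calc P⁻¹ * M (α g) = P⁻¹ * (M (α g) * (P * P⁻¹)) := by rw [Matrix.mul_nonsing_inv _ hu, mul_one]
        _ = P⁻¹ * (M (α g) * P * P⁻¹) := by rw [mul_assoc]
        _ = P⁻¹ * (P * M g * P⁻¹) := by rw [hPM]
        _ = (P⁻¹ * P) * M g * P⁻¹ := by simp only [mul_assoc]
        _ = M g * P⁻¹ := by rw [Matrix.nonsing_inv_mul _ hu, one_mul]
    rw [hΘ, hΘ, e1, hf g, ← V_mul, ← V_mul, ← hkψ]
    congr 2
    group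
  have hΘΘ : Θ (Θ f0) = (ν * ν) • f0 := by
    refine LinearMap.ext fun x => ?_
    rw [hΘ, hΘ, ← V_mul, hε, ← hf0 y, LinearMap.smul_apply, ← map_smul, ← map_smul]
    congr 1
    have h5 := congrArg (fun A : Matrix (Fin 3) (Fin 3) F => A *ᵥ x) hν
    simp only [Matrix.smul_mulVec, Matrix.one_mulVec] at h5
    rw [← h5, Matrix.mulVec_mulVec, Matrix.mulVec_mulVec]
  obtain ⟨f, hf, hfne, ν', hν'⟩ := exists_eig hC hf00 hf0 hΘΘ
  refine no_adapted h3 hi hM hN hf hfne hinv ?_
  have hstk : ∀ x, V F k (f x) = f (ν' • (P *ᵥ x)) := by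
    intro x
    have h5 := congrArg (fun A : (Fin 3 → F) →ₗ[F] (D1 → F) => A (P *ᵥ x)) hν'
    simp only [hΘ, LinearMap.smul_apply] at h5
    rw [Matrix.mulVec_mulVec, Matrix.nonsing_inv_mul _ hu, Matrix.one_mulVec] at h5
    rw [h5, map_smul]
  -- the index
  have hidx : ∀ h ∈ H, h ∉ φ.range → h0⁻¹ * h ∈ φ.range := by
    intro h hh hhX
    have hfinH : Finite ↥(chevE7.group F) := inferInstance
    have hcX : Nat.card ↥(φ.range.subgroupOf H) = 360 := by
      rw [Nat.card_congr (Subgroup.subgroupOfEquivOfLe hM.le).toEquiv,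
        ← Nat.card_congr (MonoidHom.ofInjective hM.inj).toEquiv]
      have h5 := two_mul_nat_card_alternatingGroup (α := Fin 6)
      rw [Nat.card_perm, Nat.card_fin, show Nat.factorial 6 = 720 from rfl] at h5
      omega
    have h5 := Subgroup.card_mul_index (φ.range.subgroupOf H)
    rw [hcX] at h5
    have h6 : (φ.range.subgroupOf H).index ≠ 1 := by
      intro h6
      rw [Subgroup.index_eq_one, Subgroup.subgroupOf_eq_top] at h6
      exact hHX h6
    have h7 : (φ.range.subgroupOf H).index ≠ 0 := Subgroup.index_ne_zero_of_finite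
    have h8 : (φ.range.subgroupOf H).index = 2 := by omega
    have h9 := Subgroup.mul_mem_iff_of_index_two h8 (a := (⟨h0, hh0⟩ : ↥H)⁻¹) (b := (⟨h, hh⟩ : ↥H))
    rw [Subgroup.inv_mem_iff, Subgroup.mem_subgroupOf, Subgroup.mem_subgroupOf, Subgroup.mem_subgroupOf] at h9
    exact h9.2 ⟨fun h10 => absurd h10 hh0X, fun h10 => absurd h10 hhX⟩
  rintro g hg _ ⟨x, rfl⟩
  by_cases hgX : ad F g ∈ φ.range
  · obtain ⟨y', hy'⟩ := hgX
    obtain ⟨ε', -, hε'⟩ := pre_sign hL hy'.symm
    rw [hε', ← hf y']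
    exact Submodule.smul_mem _ _ ⟨_, rfl⟩
  · obtain ⟨y', hy'⟩ := hidx _ hg hgX
    obtain ⟨ε', -, hε'⟩ := pre_sign (g := k⁻¹ * g) (x := y') hL (by rw [map_mul, map_inv, hk, hy'])
    have h6 : V F g (f x) = V F k (V F (k⁻¹ * g) (f x)) := by rw [← V_mul, mul_inv_cancel_left]
    rw [h6, hε', ← hf y', map_smul, hstk]
    exact Submodule.smul_mem _ _ ⟨_, rfl⟩

/-! ### the multiplicities of the elements of order five -/

/-- the eigenvalues of the square -/
theorem ker_qd_sq (h2 : (2 : F) ≠ 0) {E : Type*} [AddCommGroup E] [Module F E] {τ : F} (hτ : τ * τ + τ - 1 = 0)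
    {T : Module.End F E} (hT : T ^ 5 = 1) : LinearMap.ker (Five.qd τ (T * T)) = LinearMap.ker (Five.qd (-1 - τ) T) := by
  have hfac : Five.qd τ (T * T) = (T * T + (-1 - τ) • T + 1) * Five.qd (-1 - τ) T := by
    rw [Five.qd, Five.qd]
    have h1 : ((-1 - τ) * (-1 - τ)) = 2 + τ := by linear_combination hτ
    simp only [mul_add, add_mul, mul_sub, smul_mul_assoc, mul_smul_comm, mul_one, one_mul, smul_smul, h1, smul_add]
    have h3 : (2 + τ) • (T * T) = T * T + T * T + τ • (T * T) := by rw [add_smul, two_smul]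
    rw [h3]
    simp only [mul_assoc]
    abel
  apply le_antisymm
  · intro x hx
    rw [LinearMap.mem_ker] at hx ⊢
    rw [hfac, Module.End.mul_apply] at hx
    generalize Five.qd (-1 - τ) T x = y at hx ⊢
    obtain ⟨s, hs⟩ : ∃ s : F, s = 1 + τ := ⟨_, rfl⟩
    have hss : s * s = s + 1 := by rw [hs]; linear_combination hτ
    have hx' : T (T y) = s • T y - y := by
      have h4 : T (T y) + (-1 - τ) • T y + y = 0 := hx
      have h5 : T (T y) = - ((-1 - τ) • T y) - y := by
        rw [eq_sub_iff_add_eq, eq_neg_iff_add_eq_zero]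
        rw [← h4]; abel
      rw [h5, ← neg_smul, hs]
      congr 2
      ring
    have h5 : T (T (T (T (T y)))) = y := by
      have h6 := congrArg (fun A : Module.End F E => A y) hT
      simp only [pow_succ, pow_zero, one_mul, Module.End.mul_apply, Module.End.one_apply] at h6
      exact h6
    have e1 : T (T (T y)) = s • T y - s • y := by
      rw [hx', map_sub, map_smul, hx', smul_sub, smul_smul, hss, add_smul, one_smul]
      abel
    have e2 : T (T (T (T y))) = T y - s • y := by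
      rw [e1, map_sub, map_smul, map_smul, hx', smul_sub, smul_smul, hss, add_smul, one_smul]
      abel
    have e3 : T (T (T (T (T y)))) = - y := by
      rw [e2, map_sub, map_smul, hx']
      abel
    rw [e3] at h5
    have h6 : (2 : F) • y = 0 := by rw [two_smul]; nth_rewrite 1 [← h5]; exact neg_add_cancel y
    exact (smul_eq_zero.1 h6).resolve_left h2
  · intro x hx
    rw [LinearMap.mem_ker] at hx ⊢
    rw [hfac, Module.End.mul_apply, hx, map_zero]

/-- **the elements of order five are not fused** -/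
theorem nofuse (h2 : (2 : F) ≠ 0) (hL : Lift φ ψ) {τ : F} (hτ : τ * τ + τ - 1 = 0) {a : A6} (ha : orderOf a = 5)
    (hne : finrank F ↥(LinearMap.ker (Five.qd τ (V F (ψ a)))) ≠
      finrank F ↥(LinearMap.ker (Five.qd (-1 - τ) (V F (ψ a))))) (h : ↥(chevE7.group F)) :
    h * φ a * h⁻¹ ≠ φ (a * a) := by
  intro he
  obtain ⟨k, rfl⟩ := ad_surjective h
  have ha5 : a ^ 5 = 1 := by rw [← ha, pow_orderOf_eq_one]
  have h1 : k * ψ a * k⁻¹ = ψ (a * a) := by
    apply odd_unique (k := 5) (by decide)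
    · rw [map_mul, map_mul, map_inv, hL, hL, he]
    · rw [← MulAut.conj_apply, ← map_pow, ← map_pow, ha5, map_one, map_one]
    · rw [← map_pow, ← pow_two, pow_right_comm, ha5, one_pow, map_one]
  have hk : k * ψ a = ψ (a * a) * k := by rw [← h1]; group
  have hc : ∀ x, V F k (V F (ψ a) x) = V F (ψ (a * a)) (V F k x) := by
    intro x
    rw [← V_mul, ← V_mul, hk]
  have hq : ∀ x, V F k (Five.qd τ (V F (ψ a)) x) = Five.qd τ (V F (ψ (a * a))) (V F k x) := by
    intro x
    simp only [Five.qd, LinearMap.add_apply, LinearMap.sub_apply, LinearMap.smul_apply, Module.End.mul_apply,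
      Module.End.one_apply, map_add, map_sub, map_smul, hc]
  have hT : (V F (ψ a)) ^ 5 = 1 := by rw [← map_pow, ← map_pow, ha5, map_one, map_one]
  apply hne
  rw [← ker_qd_sq h2 hτ hT, ← map_mul, ← map_mul]
  have hki : ∀ x, V F k⁻¹ (V F k x) = x := V_inv k
  have hki' : ∀ x, V F k (V F k⁻¹ x) = x := fun x => by rw [← V_mul, mul_inv_cancel, V_one]
  let e : (D1 → F) ≃ₗ[F] (D1 → F) := LinearEquiv.ofLinearMap (V F k) (V F k⁻¹) (LinearMap.ext hki') (LinearMap.ext hki)
  have h3 : Submodule.map (e : (D1 → F) →ₗ[F] (D1 → F)) (LinearMap.ker (Five.qd τ (V F (ψ a)))) =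
      LinearMap.ker (Five.qd τ (V F (ψ (a * a)))) := by
    ext x
    rw [Submodule.mem_map, LinearMap.mem_ker]
    constructor
    · rintro ⟨y, hy, rfl⟩
      rw [LinearMap.mem_ker] at hy
      change Five.qd τ (V F (ψ (a * a))) (V F k y) = 0
      rw [← hq, hy, map_zero]
    · intro hx
      refine ⟨V F k⁻¹ x, ?_, hki' x⟩
      rw [LinearMap.mem_ker]
      have h4 := hq (V F k⁻¹ x)
      rw [hki', hx] at h4
      rw [← hki (Five.qd τ (V F (ψ a)) (V F k⁻¹ x)), h4, map_zero]
  rw [← h3]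
  exact (LinearEquiv.finrank_map_eq e _).symm

/-- **the form which is used in C3** -/
theorem hno [Finite F] (h3 : (3 : F) = 0) (hM : MaxAlt H 6 φ) (hL : Lift φ ψ) (hc : Nat.card ↥H ≤ 720)
    (hinv : Representation.invariants (MonoidHom.comp (L F) ψ) = ⊥) {τ : F} {a b : A6} {d2 d4 d5 u v : ℕ}
    (hd : N6L.Dat ψ τ a b d2 d4 d5 u v) (huv : u ≠ v) (U : Submodule F (D1 → F))
    (hU : ∀ g, ∀ x ∈ U, V F (ψ g) x ∈ U) (hU3 : finrank F ↥U = 3) : False := by
  have h2 : (2 : F) ≠ 0 := by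
    intro h2
    have h' : (1 : F) = 0 := by linear_combination h3 - h2
    exact one_ne_zero h'
  have hi : (2 * τ + 1) * (2 * τ + 1) = (-1 : F) := by linear_combination 4 * hd.hτ + 2 * h3
  refine no_three h3 hi hM hL hc hinv hd.oa (fun h _ => nofuse h2 hL hd.hτ hd.oa ?_ h) hU hU3
  rw [hd.qu, hd.qv]
  omega

end Cfsg.Agent.R2.T1.N6R
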