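import Cfsg.Agent.R2.T1.N6R.A6

/-!
# S5929, `n = 6`, `p = 3`, packet C2-rep: three-dimensional representations (helper7)

* `exists_nor` : the basis `w, c w, c² w` of weight vectors of the four-group;
* `Nor M` : the matrix representation `M` is in normal form;
* `Nor.entry` : the entries of `M g` are given by traces;
* `Nor.ext_trace` : `M` is determined by its traces; `Nor.transpose` : `M g⁻¹ = (M g)ᵀ` if the traces are real;
* `Nor.scalar` : the commutant consists of scalars.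
-/

set_option autoImplicit false

namespace Cfsg.Agent.R2.T1.N6R

open Module Matrix

universe u

variable {F : Type u} [Field F] {G : Type*} [Group G] {t1 t2 c : G}

/-! ### the basis -/

section basis
variable {W : Type*} [AddCommGroup W] [Module F W]

theorem Tet.d1 (T : Tet t1 t2 c) : t1 * c = c * (t1 * t2) := by
  calc t1 * c = t1 * (t2 * t2) * c := by rw [T.s2, mul_one]
    _ = (t1 * t2) * (t2 * c) := by simp only [mul_assoc]
    _ = (t2 * t1) * (t2 * c) := by rw [T.cm]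
    _ = t2 * (t1 * t2 * c) := by simp only [mul_assoc]
    _ = t2 * (c * t2) := by rw [T.c2]
    _ = (t2 * c) * t2 := by simp only [mul_assoc]
    _ = (c * t1) * t2 := by rw [T.c1]
    _ = c * (t1 * t2) := by simp only [mul_assoc]

theorem rmul (ρ : Representation F G W) (g h : G) (v : W) : ρ (g * h) v = ρ g (ρ h v) := by
  rw [map_mul, Module.End.mul_apply]

theorem wt_step (ρ : Representation F G W) (T : Tet t1 t2 c) {v : W} {a b : F} (h1 : ρ t1 v = a • v)
    (h2 : ρ t2 v = b • v) : ρ t1 (ρ c v) = (a * b) • ρ c v ∧ ρ t2 (ρ c v) = a • ρ c v := by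
  constructor
  · rw [← rmul, T.d1, rmul, rmul, h2, map_smul, h1, smul_smul, map_smul, mul_comm]
  · rw [← rmul, ← T.c1, rmul, h1, map_smul]

theorem exists_wt (ρ : Representation F G W) (T : Tet t1 t2 c) {w : W} (hw : ρ t1 w ≠ w) :
    ∃ v : W, v ≠ 0 ∧ ρ t1 v = (1 : F) • v ∧ ρ t2 v = (-1 : F) • v := by
  have hc : ∀ {v : W}, v ≠ 0 → ρ c v ≠ 0 := by
    intro v hv h0
    apply hv
    have h1 : ρ (c * c * c) v = 0 := by rw [rmul, rmul, h0, map_zero, map_zero]
    rwa [T.c3, map_one, Module.End.one_apply] at h1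
  obtain ⟨w', hw'⟩ : ∃ w', w' = w - ρ t1 w := ⟨_, rfl⟩
  have hw0 : w' ≠ 0 := by rw [hw']; exact sub_ne_zero.2 (Ne.symm hw)
  have hw1 : ρ t1 w' = (-1 : F) • w' := by
    rw [hw', map_sub, ← rmul, T.s1, map_one, Module.End.one_apply, smul_sub, neg_one_smul, neg_one_smul]
    abel
  by_cases hu : w' + ρ t2 w' = 0
  · have hw2 : ρ t2 w' = (-1 : F) • w' := by rw [neg_one_smul]; exact (neg_eq_of_add_eq_zero_right hu).symm
    obtain ⟨e1, e2⟩ := wt_step ρ T hw1 hw2
    refine ⟨ρ c w', hc hw0, ?_, e2⟩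
    rw [e1]; norm_num
  · have hu1 : ρ t1 (w' + ρ t2 w') = (-1 : F) • (w' + ρ t2 w') := by
      rw [map_add, hw1, ← rmul, T.cm, rmul, hw1, map_smul, smul_add]
    have hu2 : ρ t2 (w' + ρ t2 w') = (1 : F) • (w' + ρ t2 w') := by
      rw [map_add, ← rmul, T.s2, map_one, Module.End.one_apply, one_smul, add_comm]
    obtain ⟨e1, e2⟩ := wt_step ρ T hu1 hu2
    obtain ⟨e3, e4⟩ := wt_step ρ T e1 e2
    refine ⟨_, hc (hc hu), ?_, ?_⟩
    · rw [e3]; norm_num
    · rw [e4]; norm_num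

/-- the matrix representation is in normal form -/
structure Nor (M : G →* Matrix (Fin 3) (Fin 3) F) (t1 t2 c : G) : Prop where
  m1 : M t1 = !![1, 0, 0; 0, -1, 0; 0, 0, -1]
  m2 : M t2 = !![-1, 0, 0; 0, 1, 0; 0, 0, -1]
  mc : M c = !![0, 0, 1; 1, 0, 0; 0, 1, 0]

/-- **the normal form** -/
theorem exists_nor (h2 : (2 : F) ≠ 0) (ρ : Representation F G W) (hd : finrank F W = 3) (T : Tet t1 t2 c)
    (hne : ∃ w, ρ t1 w ≠ w) : ∃ (M : G →* Matrix (Fin 3) (Fin 3) F) (e : (Fin 3 → F) ≃ₗ[F] W), Nor M t1 t2 c ∧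
      ∀ g x, e (M g *ᵥ x) = ρ g (e x) := by
  obtain ⟨w, hw⟩ := hne
  obtain ⟨v, hv0, a1, a2⟩ := exists_wt ρ T hw
  obtain ⟨b1, b2⟩ := wt_step ρ T a1 a2
  obtain ⟨c1, c2⟩ := wt_step ρ T b1 b2
  have cc : ρ c (ρ c (ρ c v)) = v := by rw [← rmul, ← rmul, T.c3, map_one, Module.End.one_apply]
  obtain ⟨v1, hv1⟩ : ∃ v1, v1 = ρ c v := ⟨_, rfl⟩
  obtain ⟨v2, hv2⟩ : ∃ v2, v2 = ρ c v1 := ⟨_, rfl⟩
  rw [← hv1] at b1 b2 c1 c2 cc
  rw [← hv2] at c1 c2 cc
  have b1' : ρ t1 v1 = - v1 := by rw [b1]; norm_num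
  have b2' : ρ t2 v1 = v1 := by rw [b2]; norm_num
  have c1' : ρ t1 v2 = - v2 := by rw [c1]; norm_num
  have c2' : ρ t2 v2 = - v2 := by rw [c2]; norm_num
  have a1' : ρ t1 v = v := by rw [a1, one_smul]
  have a2' : ρ t2 v = - v := by rw [a2, neg_one_smul]
  have hv20 : v2 ≠ 0 := by
    rintro h0
    rw [h0, map_zero] at cc
    exact hv0 cc.symm
  have hv10 : v1 ≠ 0 := by
    rintro h0
    rw [h0, map_zero] at hv2
    exact hv20 hv2
  have hli : LinearIndependent F ![v, v1, v2] := by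
    rw [Fintype.linearIndependent_iff]
    intro g hg
    rw [Fin.sum_univ_three] at hg
    change g 0 • v + g 1 • v1 + g 2 • v2 = 0 at hg
    have h1 := congrArg (ρ t1) hg
    rw [map_add, map_add, map_smul, map_smul, map_smul, a1', b1', c1', map_zero] at h1
    have h3 := congrArg (ρ t2) hg
    rw [map_add, map_add, map_smul, map_smul, map_smul, a2', b2', c2', map_zero] at h3
    have h4 : ((2 : F) * g 0) • v = 0 := by
      have : ((2 : F) * g 0) • v = (g 0 • v + g 1 • v1 + g 2 • v2) + (g 0 • v + g 1 • -v1 + g 2 • -v2) := by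
        rw [smul_neg, smul_neg, two_mul, add_smul]; abel
      rw [this, hg, h1, add_zero]
    have h5 : ((2 : F) * g 1) • v1 = 0 := by
      have : ((2 : F) * g 1) • v1 = (g 0 • v + g 1 • v1 + g 2 • v2) + (g 0 • -v + g 1 • v1 + g 2 • -v2) := by
        rw [smul_neg, smul_neg, two_mul, add_smul]; abel
      rw [this, hg, h3, add_zero]
    have e0 : g 0 = 0 := (mul_eq_zero.1 ((smul_eq_zero.1 h4).resolve_right hv0)).resolve_left h2
    have e1 : g 1 = 0 := (mul_eq_zero.1 ((smul_eq_zero.1 h5).resolve_right hv10)).resolve_left h2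
    rw [e0, e1, zero_smul, zero_smul, zero_add, zero_add] at hg
    have e2 : g 2 = 0 := (smul_eq_zero.1 hg).resolve_right hv20
    intro i
    fin_cases i
    · exact e0
    · exact e1
    · exact e2
  have hfin : FiniteDimensional F W := FiniteDimensional.of_finrank_pos (by omega)
  let b : Basis (Fin 3) F W := basisOfLinearIndependentOfCardEqFinrank hli (by rw [Fintype.card_fin, hd])
  have hb : ⇑b = ![v, v1, v2] := coe_basisOfLinearIndependentOfCardEqFinrank _ _
  let e : (Fin 3 → F) ≃ₗ[F] W := b.equivFun.symm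
  have he : ∀ j, e (Pi.single j 1) = b j := by
    intro j
    rw [LinearEquiv.symm_apply_eq]
    funext i
    rw [Basis.equivFun_self, Pi.single_apply]
    by_cases h : i = j
    · rw [if_pos h, h, if_pos rfl]
    · rw [if_neg h, if_neg (Ne.symm h)]
  have he' : ∀ j, e.symm (b j) = Pi.single j 1 := by
    intro j
    rw [← he, LinearEquiv.symm_apply_apply]
  let M : G →* Matrix (Fin 3) (Fin 3) F :=
    { toFun := fun g => LinearMap.toMatrix' ((e.symm : W →ₗ[F] (Fin 3 → F)) ∘ₗ ρ g ∘ₗ (e : (Fin 3 → F) →ₗ[F] W))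
      map_one' := by
        rw [map_one]
        have : ((e.symm : W →ₗ[F] (Fin 3 → F)) ∘ₗ (1 : W →ₗ[F] W) ∘ₗ (e : (Fin 3 → F) →ₗ[F] W)) = LinearMap.id := by
          ext1 x
          ext1
          simp
        rw [this, LinearMap.toMatrix'_id]
      map_mul' := by
        intro g h
        rw [← LinearMap.toMatrix'_comp]
        congr 1
        refine LinearMap.ext fun x => ?_
        simp }
  have hM : ∀ g x, e (M g *ᵥ x) = ρ g (e x) := by
    intro g x
    change e (LinearMap.toMatrix' ((e.symm : W →ₗ[F] (Fin 3 → F)) ∘ₗ ρ g ∘ₗ (e : (Fin 3 → F) →ₗ[F] W)) *ᵥ x) = _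
    rw [← Matrix.toLin'_apply, Matrix.toLin'_toMatrix', LinearMap.comp_apply, LinearMap.comp_apply]
    exact e.apply_symm_apply _
  have hcol : ∀ g j, (M g).col j = e.symm (ρ g (b j)) := by
    intro g j
    rw [← he, ← hM, LinearEquiv.symm_apply_apply, Matrix.mulVec_single_one]
  have hent : ∀ g i j, M g i j = e.symm (ρ g (b j)) i := by
    intro g i j
    rw [← hcol]
    rfl
  have q0 : b 0 = v := by rw [hb]; rfl
  have q1 : b 1 = v1 := by rw [hb]; rfl
  have q2 : b 2 = v2 := by rw [hb]; rfl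
  have p0 : e.symm v = Pi.single 0 1 := by rw [← q0, he']
  have p1 : e.symm v1 = Pi.single 1 1 := by rw [← q1, he']
  have p2 : e.symm v2 = Pi.single 2 1 := by rw [← q2, he']
  refine ⟨M, e, ⟨?_, ?_, ?_⟩, hM⟩
  · ext i j
    rw [hent]
    fin_cases j
    · change e.symm (ρ t1 (b 0)) i = _
      rw [q0, a1', p0]
      fin_cases i <;> rfl
    · change e.symm (ρ t1 (b 1)) i = _
      rw [q1, b1', map_neg, p1]
      fin_cases i <;> simp
    · change e.symm (ρ t1 (b 2)) i = _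
      rw [q2, c1', map_neg, p2]
      fin_cases i <;> simp
  · ext i j
    rw [hent]
    fin_cases j
    · change e.symm (ρ t2 (b 0)) i = _
      rw [q0, a2', map_neg, p0]
      fin_cases i <;> simp
    · change e.symm (ρ t2 (b 1)) i = _
      rw [q1, b2', p1]
      fin_cases i <;> rfl
    · change e.symm (ρ t2 (b 2)) i = _
      rw [q2, c2', map_neg, p2]
      fin_cases i <;> simp
  · ext i j
    rw [hent]
    fin_cases j
    · change e.symm (ρ c (b 0)) i = _
      rw [q0, ← hv1, p1]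
      fin_cases i <;> rfl
    · change e.symm (ρ c (b 1)) i = _
      rw [q1, ← hv2, p2]
      fin_cases i <;> rfl
    · change e.symm (ρ c (b 2)) i = _
      rw [q2, cc, p0]
      fin_cases i <;> rfl

end basis

/-! ### matrices in normal form -/

section nor
variable {M : G →* Matrix (Fin 3) (Fin 3) F}

theorem Nor.mci (h : Nor M t1 t2 c) (T : Tet t1 t2 c) : M c⁻¹ = !![0, 1, 0; 0, 0, 1; 1, 0, 0] := by
  have h1 : c⁻¹ = c * c := by rw [inv_eq_iff_mul_eq_one, ← mul_assoc, T.c3]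
  rw [h1, map_mul, h.mc]
  ext i j
  fin_cases i <;> fin_cases j <;> simp [Matrix.mul_apply, Fin.sum_univ_three]

/-- **the entries are given by traces** -/
theorem Nor.entry (h : Nor M t1 t2 c) (T : Tet t1 t2 c) (g : G) (i j : Fin 3) :
    2 * M g i j = trace (M ((c ^ (i : ℕ))⁻¹ * g * c ^ (j : ℕ))) + trace (M ((c ^ (i : ℕ))⁻¹ * g * c ^ (j : ℕ) * t1)) := by
  have hN : ∀ N : Matrix (Fin 3) (Fin 3) F, trace N + trace (N * !![1, 0, 0; 0, -1, 0; 0, 0, -1]) = 2 * N 0 0 := by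
    intro N
    rw [Matrix.trace_fin_three, Matrix.trace_fin_three]
    simp [Matrix.mul_apply, Fin.sum_univ_three]
    ring
  rw [map_mul M _ t1, h.m1, hN, map_mul, map_mul, ← inv_pow, map_pow, map_pow, h.mci T, h.mc]
  congr 1
  fin_cases i <;> fin_cases j <;> simp [Matrix.mul_apply, Fin.sum_univ_three, pow_two, Matrix.vecMul, dotProduct]

/-- **the matrices are determined by the traces** -/
theorem Nor.ext_trace (h2 : (2 : F) ≠ 0) {M' : G →* Matrix (Fin 3) (Fin 3) F} (h : Nor M t1 t2 c)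
    (h' : Nor M' t1 t2 c) (T : Tet t1 t2 c) (htr : ∀ g, trace (M g) = trace (M' g)) (g : G) : M g = M' g := by
  ext i j
  have h3 : 2 * M g i j = 2 * M' g i j := by rw [h.entry T, h'.entry T, htr, htr]
  exact mul_left_cancel₀ h2 h3

/-- **real traces: orthogonal matrices** -/
theorem Nor.transpose (h2 : (2 : F) ≠ 0) (h : Nor M t1 t2 c) (T : Tet t1 t2 c)
    (htr : ∀ g, trace (M g⁻¹) = trace (M g)) (g : G) : M g⁻¹ = (M g)ᵀ := by
  ext i j
  have h1 : t1⁻¹ = t1 := inv_eq_of_mul_eq_one_right T.s1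
  have e1 : trace (M ((c ^ (i : ℕ))⁻¹ * g⁻¹ * c ^ (j : ℕ))) = trace (M ((c ^ (j : ℕ))⁻¹ * g * c ^ (i : ℕ))) := by
    rw [← htr ((c ^ (j : ℕ))⁻¹ * g * c ^ (i : ℕ))]
    congr 2
    group
  have e2 : trace (M ((c ^ (i : ℕ))⁻¹ * g⁻¹ * c ^ (j : ℕ) * t1)) =
      trace (M ((c ^ (j : ℕ))⁻¹ * g * c ^ (i : ℕ) * t1)) := by
    rw [map_mul M ((c ^ (j : ℕ))⁻¹ * g * c ^ (i : ℕ)) t1, Matrix.trace_mul_comm, ← map_mul,
      ← htr (t1 * ((c ^ (j : ℕ))⁻¹ * g * c ^ (i : ℕ)))]
    congr 2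
    rw [_root_.mul_inv_rev, h1]
    group
  have h3 : 2 * M g⁻¹ i j = 2 * M g j i := by rw [h.entry T, h.entry T g j i, e1, e2]
  exact mul_left_cancel₀ h2 h3

/-- **the commutant consists of scalars** -/
theorem Nor.scalar (h2 : (2 : F) ≠ 0) (h : Nor M t1 t2 c) {X : Matrix (Fin 3) (Fin 3) F}
    (hX : ∀ g, X * M g = M g * X) : X = X 0 0 • (1 : Matrix (Fin 3) (Fin 3) F) := by
  have g1 := hX t1
  have g2 := hX t2
  have gc := hX c
  rw [h.m1] at g1
  rw [h.m2] at g2
  rw [h.mc] at gc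
  have k1 := fun i j => congrFun (congrFun g1 i) j
  have k2 := fun i j => congrFun (congrFun g2 i) j
  have kc := fun i j => congrFun (congrFun gc i) j
  have z : ∀ {x : F}, -x = x → x = 0 := by
    intro x hx
    have h3 : (2 : F) * x = 0 := by linear_combination -hx
    exact (mul_eq_zero.1 h3).resolve_left h2
  have a01 := k1 0 1
  have a02 := k1 0 2
  have a10 := k1 1 0
  have a20 := k1 2 0
  have b12 := k2 1 2
  have b21 := k2 2 1
  have c10 := kc 1 0
  have c21 := kc 2 1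
  simp [Matrix.mul_apply, Fin.sum_univ_three] at a01 a02 a10 a20 b12 b21 c10 c21
  have x01 : X 0 1 = 0 := z a01
  have x02 : X 0 2 = 0 := z a02
  have x10 : X 1 0 = 0 := z a10.symm
  have x20 : X 2 0 = 0 := z a20.symm
  have x12 : X 1 2 = 0 := z b12
  have x21 : X 2 1 = 0 := z b21.symm
  ext i j
  fin_cases i <;> fin_cases j <;>
    simp [x01, x02, x10, x20, x12, x21, c10, c21]

end nor

end Cfsg.Agent.R2.T1.N6R
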