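import Cfsg.Agent.R2.T1.N6R.Mat

/-!
# S5929, `n = 6`, `p = 3`, packet C2-rep: traces, the twisted representation, the eigenvector (helper7)

* `trace_conj`, `trace_inv6`, `trace_three` : traces of a three-dimensional representation of `A₆`, characteristic three;
* `trace_twist` : the traces are invariant under an injective endomorphism which does not fuse the elements of order five;
* `exists_twist` : the matrix of the twist, `P * M g = M (α g) * P`;
* `exists_eig` : an eigenvector of the twist on a space of homomorphisms.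
-/

set_option autoImplicit false

namespace Cfsg.Agent.R2.T1.N6R

open Module Matrix

universe u

variable {F : Type u} [Field F]

/-! ### traces -/

section trace
variable {G : Type*} [Group G] {M : G →* Matrix (Fin 3) (Fin 3) F}

theorem trace_conj {x y : G} (h : IsConj x y) : trace (M x) = trace (M y) := by
  obtain ⟨z, hz⟩ := isConj_iff.1 h
  rw [← hz, map_mul, map_mul, Matrix.trace_mul_comm, ← mul_assoc, ← map_mul, inv_mul_cancel, map_one, one_mul]

theorem trace_three (h3 : (3 : F) = 0) {x : G} (hx : x ^ 3 = 1) : trace (M x) = 0 := by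
  have h1 : (M x - 1) ^ 3 = 0 := by
    have h4 : (M x) ^ 3 = 1 := by rw [← map_pow, hx, map_one]
    have h5 : (M x - 1) ^ 3 = (M x) ^ 3 - 1 - (3 : F) • ((M x) ^ 2 - M x) := by
      have : (3 : F) • ((M x) ^ 2 - M x) = 3 * ((M x) ^ 2 - M x) := by
        rw [show (3 : F) = 1 + 1 + 1 by norm_num, add_smul, add_smul, one_smul]
        noncomm_ring
      rw [this]
      noncomm_ring
    rw [h5, h4, h3, zero_smul, sub_self, sub_zero]
  have h2 : IsNilpotent (trace (M x - 1)) := Matrix.isNilpotent_trace_of_isNilpotent ⟨3, h1⟩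
  have h6 := h2.eq_zero
  rw [Matrix.trace_sub, Matrix.trace_one, Fintype.card_fin, sub_eq_zero] at h6
  rw [h6]
  exact_mod_cast h3

end trace

section six
variable {M : A6 →* Matrix (Fin 3) (Fin 3) F}

theorem trace_inv6 (x : A6) : trace (M x⁻¹) = trace (M x) := (trace_conj (real6 x)).symm

theorem trace_twist (h3 : (3 : F) = 0) {α : A6 →* A6} (hα : Function.Injective α)
    (hf : ∀ x : A6, orderOf x = 5 → ¬ IsConj (x * x) (α x)) (x : A6) : trace (M (α x)) = trace (M x) := by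
  have ho : orderOf (α x) = orderOf x := orderOf_injective α hα x
  rcases cls6 ho.symm with h | h | ⟨h, h'⟩
  · rw [trace_three h3 h, trace_three h3 (by rw [← map_pow, h, map_one])]
  · exact (trace_conj h).symm
  · exact absurd h' (hf x h)

theorem trace_u1 (h : Nor M u1 u2 uc) : trace (M u1) = -1 := by
  rw [h.m1, Matrix.trace_fin_three]
  simp

/-- **the matrix of the twist** -/
theorem exists_twist (h3 : (3 : F) = 0) (h : Nor M u1 u2 uc) {α : A6 →* A6} (hα : Function.Injective α)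
    (hf : ∀ x : A6, orderOf x = 5 → ¬ IsConj (x * x) (α x)) :
    ∃ P : Matrix (Fin 3) (Fin 3) F, P.det ≠ 0 ∧ ∀ g, P * M g = M (α g) * P := by
  have h2 : (2 : F) ≠ 0 := by
    intro h2
    have h' : (1 : F) = 0 := by linear_combination h3 - h2
    exact one_ne_zero h'
  let ρ : Representation F A6 (Fin 3 → F) :=
    { toFun := fun g => Matrix.toLin' (M (α g))
      map_one' := by rw [map_one, map_one, Matrix.toLin'_one]; rfl
      map_mul' := by intro g g'; rw [map_mul, map_mul, Matrix.toLin'_mul]; rfl }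
  have hρ : ∀ g x, ρ g x = M (α g) *ᵥ x := fun g x => Matrix.toLin'_apply _ _
  have hne : ∃ w, ρ u1 w ≠ w := by
    by_contra hcon
    push Not at hcon
    have h4 : M (α u1) = 1 := by
      apply Matrix.toLin'.injective
      refine LinearMap.ext fun x => ?_
      rw [Matrix.toLin'_apply, Matrix.toLin'_apply, Matrix.one_mulVec, ← hρ, hcon]
    have h5 := trace_twist (M := M) h3 hα hf u1
    rw [h4, Matrix.trace_one, trace_u1 h, Fintype.card_fin] at h5
    have h6 : (1 : F) = 0 := by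
      have : ((3 : ℕ) : F) = 0 := by exact_mod_cast h3
      rw [this] at h5
      linear_combination h5
    exact one_ne_zero h6
  obtain ⟨M', e, hN, he⟩ := exists_nor h2 ρ (by rw [Module.finrank_fin_fun]) tet6 hne
  have hP : ∀ g, LinearMap.toMatrix' (e : (Fin 3 → F) →ₗ[F] (Fin 3 → F)) * M' g =
      M (α g) * LinearMap.toMatrix' (e : (Fin 3 → F) →ₗ[F] (Fin 3 → F)) := by
    intro g
    apply Matrix.toLin'.injective
    refine LinearMap.ext fun x => ?_
    rw [Matrix.toLin'_mul, Matrix.toLin'_mul, Matrix.toLin'_toMatrix', LinearMap.comp_apply, LinearMap.comp_apply,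
      Matrix.toLin'_apply, Matrix.toLin'_apply]
    exact (he g x).trans (hρ g _)
  have hdet : (LinearMap.toMatrix' (e : (Fin 3 → F) →ₗ[F] (Fin 3 → F))).det ≠ 0 := by
    rw [LinearMap.det_toMatrix']
    exact (LinearEquiv.isUnit_det' e).ne_zero
  refine ⟨_, hdet, fun g => ?_⟩
  have h7 : M g = M' g := by
    refine h.ext_trace h2 hN tet6 (fun x => ?_) g
    rw [← trace_twist (M := M) h3 hα hf x]
    have h8 : IsUnit (LinearMap.toMatrix' (e : (Fin 3 → F) →ₗ[F] (Fin 3 → F))).det := isUnit_iff_ne_zero.2 hdet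
    have h9 : M' x = (LinearMap.toMatrix' (e : (Fin 3 → F) →ₗ[F] (Fin 3 → F)))⁻¹ * (M (α x) *
        LinearMap.toMatrix' (e : (Fin 3 → F) →ₗ[F] (Fin 3 → F))) := by
      rw [← hP, ← mul_assoc, Matrix.nonsing_inv_mul _ h8, one_mul]
    rw [h9, Matrix.trace_mul_comm, mul_assoc, Matrix.mul_nonsing_inv _ h8, mul_one]
  rw [h7]
  exact hP g

/-- **the matrices are orthogonal** -/
theorem orth6 (h2 : (2 : F) ≠ 0) (h : Nor M u1 u2 uc) (g : A6) : M g * (M g)ᵀ = 1 := by
  rw [← h.transpose h2 tet6 trace_inv6, ← map_mul, mul_inv_cancel, map_one]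

/-- **the square of the twist** -/
theorem twist_sq (h2 : (2 : F) ≠ 0) {i : F} (hi : i * i = -1) (h : Nor M u1 u2 uc) {α : A6 →* A6}
    {P : Matrix (Fin 3) (Fin 3) F} (hP : P.det ≠ 0) (hPM : ∀ g, P * M g = M (α g) * P) {y : A6}
    (hy : ∀ g, α (α g) = y * g * y⁻¹) {ε : F} (hε : ε = 1 ∨ ε = -1) :
    ∃ ν : F, ε • (M y * P⁻¹ * P⁻¹) = (ν * ν) • (1 : Matrix (Fin 3) (Fin 3) F) := by
  have hu : IsUnit P.det := isUnit_iff_ne_zero.2 hP
  obtain ⟨μ, hμ⟩ : ∃ μ : F, M y⁻¹ * P * P = μ • (1 : Matrix (Fin 3) (Fin 3) F) := by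
    refine ⟨_, h.scalar h2 (X := M y⁻¹ * P * P) fun g => ?_⟩
    calc M y⁻¹ * P * P * M g = M y⁻¹ * (P * (P * M g)) := by simp only [mul_assoc]
      _ = M y⁻¹ * (P * M (α g) * P) := by rw [hPM g]; simp only [mul_assoc]
      _ = M y⁻¹ * (M (α (α g)) * P * P) := by rw [hPM (α g)]
      _ = M (y⁻¹ * (y * g * y⁻¹)) * P * P := by rw [hy, map_mul M y⁻¹ (y * g * y⁻¹)]; simp only [mul_assoc]
      _ = M (g * y⁻¹) * P * P := by rw [show y⁻¹ * (y * g * y⁻¹) = g * y⁻¹ by group]
      _ = _ := by rw [map_mul]; simp only [mul_assoc]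
  have hPP : P * P = μ • M y := by
    have h1 : M y * (M y⁻¹ * P * P) = P * P := by
      rw [mul_assoc, ← mul_assoc (M y), ← map_mul, mul_inv_cancel, map_one, one_mul]
    rw [← h1, hμ, mul_smul_comm, mul_one]
  have hdd : (M y).det * (M y).det = 1 := by
    have h1 := congrArg Matrix.det (orth6 h2 h y)
    rwa [Matrix.det_mul, Matrix.det_transpose, Matrix.det_one] at h1
  have hdet : P.det * P.det = μ ^ 3 * (M y).det := by
    rw [← Matrix.det_mul, hPP, Matrix.det_smul, Fintype.card_fin]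
  have hμ0 : μ ≠ 0 := by
    rintro rfl
    rw [zero_pow (by norm_num), zero_mul, mul_self_eq_zero] at hdet
    exact hP hdet
  have hd : (M y).det = 1 ∨ (M y).det = -1 := mul_self_eq_one_iff.1 hdd
  -- the inverse of `μ`
  have hinv : M y * P⁻¹ * P⁻¹ = μ⁻¹ • (1 : Matrix (Fin 3) (Fin 3) F) := by
    have h1 : M y = μ⁻¹ • (P * P) := by rw [hPP, smul_smul, inv_mul_cancel₀ hμ0, one_smul]
    rw [h1, smul_mul_assoc, smul_mul_assoc, mul_assoc P P, Matrix.mul_nonsing_inv _ hu, mul_one,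
      Matrix.mul_nonsing_inv _ hu]
  obtain ⟨κ, hκ1, hκ2⟩ : ∃ κ : F, (κ = 1 ∨ κ = -1) ∧ ε * μ⁻¹ = κ * ((μ / P.det) * (μ / P.det)) := by
    refine ⟨ε * (M y).det, ?_, ?_⟩
    · rcases hε with rfl | rfl <;> rcases hd with h1 | h1 <;> rw [h1] <;> norm_num
    · have h1 : μ⁻¹ = (M y).det * ((μ / P.det) * (μ / P.det)) := by
        field_simp
        linear_combination hdet
      rw [mul_assoc, ← h1]
  rw [hinv, smul_smul, hκ2]
  rcases hκ1 with rfl | rfl
  · exact ⟨μ / P.det, by rw [one_mul]⟩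
  · exact ⟨i * (μ / P.det), by rw [show i * (μ / P.det) * (i * (μ / P.det)) = (i * i) * ((μ / P.det) * (μ / P.det)) by ring, hi]⟩

end six

/-! ### the eigenvector -/

theorem exists_eig {E : Type*} [AddCommGroup E] [Module F E] {Θ : E →ₗ[F] E} {C : Submodule F E} (hC : ∀ f ∈ C, Θ f ∈ C)
    {ν : F} {f0 : E} (h0 : f0 ≠ 0) (hf : f0 ∈ C) (hΘ : Θ (Θ f0) = (ν * ν) • f0) :
    ∃ f ∈ C, f ≠ 0 ∧ ∃ ν' : F, Θ f = ν' • f := by
  by_cases h1 : Θ f0 + ν • f0 = 0
  · exact ⟨f0, hf, h0, -ν, by rw [neg_smul]; exact eq_neg_of_add_eq_zero_left h1⟩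
  · refine ⟨_, C.add_mem (hC _ hf) (C.smul_mem ν hf), h1, ν, ?_⟩
    rw [map_add, map_smul, hΘ, smul_add, smul_smul, add_comm]

end Cfsg.Agent.R2.T1.N6R
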